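import Groth.Agent.Lib.Helper5.DS.DS4
import Groth.Agent.Lib.Helper5.AL.AL8

universe u

namespace H5.DS

open AlgebraicGeometry CategoryTheory

variable {X Y : Scheme.{u}}

/-- LFP version of `exists_smooth_nhd_iff`. -/
theorem exists_smooth_nhd_iff_lfp (f : X ⟶ Y) [LocallyOfFinitePresentation f] (x : X) :
    (∃ U : X.Opens, x ∈ U ∧ Smooth (U.ι ≫ f)) ↔ (f.stalkMap x).hom.FormallySmooth := by
  rw [← Scheme.Hom.mem_smoothLocus]
  constructor
  · rintro ⟨U, hxU, hsm⟩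
    have h1 : (U.ι ≫ f).smoothLocus = ⊤ := Scheme.Hom.smoothLocus_eq_top_iff.2 hsm
    rw [← Scheme.Hom.preimage_smoothLocus_eq] at h1
    have h2 : (⟨x, hxU⟩ : U) ∈ U.ι ⁻¹ᵁ f.smoothLocus := by rw [h1]; trivial
    exact h2
  · intro hx
    refine ⟨f.smoothLocus, hx, ?_⟩
    rw [← Scheme.Hom.smoothLocus_eq_top_iff, ← Scheme.Hom.preimage_smoothLocus_eq]
    ext y
    simp only [TopologicalSpace.Opens.coe_top, Set.mem_univ, iff_true]
    exact y.2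

lemma flat_stalkMap_comp {U : Scheme.{u}} (j : U ⟶ X) [IsOpenImmersion j]
    (f : X ⟶ Y) (y : U) :
    (f.stalkMap (j y)).hom.Flat ↔ ((j ≫ f).stalkMap y).hom.Flat := by
  refine (RingHom.Flat.respectsIso.cancel_right_isIso _ (j.stalkMap y)).symm.trans ?_
  rw [← CommRingCat.hom_comp, ← Scheme.Hom.stalkMap_comp]
  rfl

/-- flatness of the stalk map from smoothness on a neighbourhood. -/
theorem flat_stalkMap_of_smooth_nhd (f : X ⟶ Y) (x : X)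
    (h : ∃ U : X.Opens, x ∈ U ∧ Smooth (U.ι ≫ f)) : (f.stalkMap x).hom.Flat := by
  obtain ⟨U, hxU, hsm⟩ := h
  have h1 : ((U.ι ≫ f).stalkMap ⟨x, hxU⟩).hom.Flat := Flat.stalkMap (U.ι ≫ f) ⟨x, hxU⟩
  exact (flat_stalkMap_comp U.ι f ⟨x, hxU⟩).2 h1

lemma flat_stalkMap_iff {f : X ⟶ Y} {x : X} (U : Y.Opens)
    (hU : IsAffineOpen U) (V : X.Opens) (hV : IsAffineOpen V) (hVU : V ≤ f ⁻¹ᵁ U)
    (hx : x ∈ V) :
    letI := (f.appLE U V hVU).hom.toAlgebra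
    ∀ [(hV.primeIdealOf ⟨x, hx⟩).asIdeal.LiesOver (hU.primeIdealOf ⟨f x, hVU hx⟩).asIdeal],
    letI := Localization.AtPrime.algebraOfLiesOver (hU.primeIdealOf ⟨f x, hVU hx⟩).asIdeal
      (hV.primeIdealOf ⟨x, hx⟩).asIdeal
    ((f.stalkMap x).hom.Flat ↔
      Module.Flat (Localization.AtPrime (hU.primeIdealOf ⟨f x, hVU hx⟩).asIdeal)
        (Localization.AtPrime (hV.primeIdealOf ⟨x, hx⟩).asIdeal)) := by
  intro _
  letI := (f.appLE U V hVU).hom.toAlgebra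
  letI := Localization.AtPrime.algebraOfLiesOver (hU.primeIdealOf ⟨f x, hVU hx⟩).asIdeal
      (hV.primeIdealOf ⟨x, hx⟩).asIdeal
  rw [← RingHom.flat_algebraMap_iff]
  exact RingHom.Flat.respectsIso.arrow_mk_iso_iff
    (IsAffineOpen.arrowStalkMapIso f U hU V hV hVU hx)

end H5.DS

namespace H5.DS

open AlgebraicGeometry CategoryTheory

theorem main2805 {X Y S : Scheme.{u}} (f : Y ⟶ S) (h : X ⟶ S)
    [LocallyOfFinitePresentation f] [LocallyOfFinitePresentation h]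
    (g : X ⟶ Y) (w : g ≫ f = h) (x : X) (hg : (g.stalkMap x).hom.Flat)
    (hh : ∃ U : X.Opens, x ∈ U ∧ Smooth (U.ι ≫ h)) :
    ∃ V : Y.Opens, g.base x ∈ V ∧ Smooth (V.ι ≫ f) := by
  subst w
  rw [exists_smooth_nhd_iff_lfp]
  have hflat : ((g ≫ f).stalkMap x).hom.Flat := flat_stalkMap_of_smooth_nhd (g ≫ f) x hh
  rw [exists_smooth_nhd_iff_lfp] at hh
  -- affine opens
  obtain ⟨_, ⟨W, hW, rfl⟩, hxW, -⟩ :=
    S.isBasis_affineOpens.exists_subset_of_mem_open (Set.mem_univ (f (g x))) isOpen_univ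
  obtain ⟨_, ⟨V, hV, rfl⟩, hxV, hVW⟩ :=
    Y.isBasis_affineOpens.exists_subset_of_mem_open hxW (W.2.preimage f.continuous)
  obtain ⟨_, ⟨U, hU, rfl⟩, hxU, hUV⟩ :=
    X.isBasis_affineOpens.exists_subset_of_mem_open hxV (V.2.preimage g.continuous)
  have hUW : U ≤ (g ≫ f) ⁻¹ᵁ W := fun z hz => hVW (hUV hz)
  have := f.finitePresentation_appLE hW hV hVW
  have := (g ≫ f).finitePresentation_appLE hW hU hUW
  letI := (f.appLE W V hVW).hom.toAlgebra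
  letI := (g.appLE V U hUV).hom.toAlgebra
  letI := ((g ≫ f).appLE W U hUW).hom.toAlgebra
  haveI : IsScalarTower Γ(S, W) Γ(Y, V) Γ(X, U) := IsScalarTower.of_algebraMap_eq' (by
    simp only [RingHom.algebraMap_toAlgebra, ← CommRingCat.hom_comp, Scheme.Hom.appLE_comp_appLE])
  haveI : Algebra.FinitePresentation Γ(S, W) Γ(Y, V) := ‹(f.appLE W V hVW).hom.FinitePresentation›
  haveI : Algebra.FinitePresentation Γ(S, W) Γ(X, U) :=
    ‹((g ≫ f).appLE W U hUW).hom.FinitePresentation›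
  haveI i1 : (hV.primeIdealOf ⟨g x, hxV⟩).asIdeal.LiesOver
      (hW.primeIdealOf ⟨f (g x), hVW hxV⟩).asIdeal :=
    ⟨congr($(IsAffineOpen.comap_primeIdealOf_appLE W hW V hV hVW hxV).1).symm⟩
  haveI i2 : (hU.primeIdealOf ⟨x, hxU⟩).asIdeal.LiesOver
      (hV.primeIdealOf ⟨g x, hUV hxU⟩).asIdeal :=
    ⟨congr($(IsAffineOpen.comap_primeIdealOf_appLE V hV U hU hUV hxU).1).symm⟩
  haveI i3 : (hU.primeIdealOf ⟨x, hxU⟩).asIdeal.LiesOver
      (hW.primeIdealOf ⟨(g ≫ f) x, hUW hxU⟩).asIdeal :=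
    ⟨congr($(IsAffineOpen.comap_primeIdealOf_appLE W hW U hU hUW hxU).1).symm⟩
  haveI i3' : (hU.primeIdealOf ⟨x, hxU⟩).asIdeal.LiesOver
      (hW.primeIdealOf ⟨f (g x), hVW hxV⟩).asIdeal := i3
  have hT : Algebra.IsSmoothAt Γ(S, W) (hU.primeIdealOf ⟨x, hxU⟩).asIdeal :=
    (formallySmooth_stalkMap_iff W hW U hU hUW hxU).mp hh
  have hflatT := (flat_stalkMap_iff W hW U hU hUW hxU).mp hflat
  have hflatST := (flat_stalkMap_iff V hV U hU hUV hxU).mp hg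
  have key := isSmoothAt_of_flat_of_isSmoothAt (hW.primeIdealOf ⟨f (g x), hVW hxV⟩).asIdeal
    (hV.primeIdealOf ⟨g x, hxV⟩).asIdeal (hU.primeIdealOf ⟨x, hxU⟩).asIdeal hT hflatT hflatST
  exact (formallySmooth_stalkMap_iff W hW V hV hVW hxV).mpr key

end H5.DS
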