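import Groth.Agent.Lib.Helper5.CA.NG19
import Groth.Agent.Lib.Helper5.CA.GR2
import Groth.Agent.Lib.Helper5.Jac.Jac3
import Groth.Agent.Lib.Helper5.EtSrc.Easy
import Groth.Agent.S9406

universe u

namespace H5.DS

open IsLocalRing TensorProduct

/-- (F) formal smoothness over a field descends along flat local homomorphisms. -/
theorem isAdicFormallySmooth_of_flat_local (k R T : Type u) [Field k] [CommRing R] [CommRing T]
    [IsLocalRing R] [IsLocalRing T] [IsNoetherianRing R] [IsNoetherianRing T]
    [Algebra k R] [Algebra k T] [Algebra R T] [IsScalarTower k R T]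
    [IsLocalHom (algebraMap R T)] [Module.Flat R T]
    (h : CAlgX.IsAdicFormallySmooth k T (maximalIdeal T)) :
    CAlgX.IsAdicFormallySmooth k R (maximalIdeal R) := by
  rw [← H5.NG.isGeometricallyRegular_iff_isAdicFormallySmooth] at h ⊢
  intro k' _ _ hfin
  haveI := hfin
  haveI h1 : IsRegularRing (k' ⊗[k] T) := h k' hfin
  haveI : Module.FaithfullyFlat R T := Module.FaithfullyFlat.of_flat_of_isLocalHom
  haveI h2 : IsRegularRing (T ⊗[k] k') :=
    IsRegularRing.of_ringEquiv (Algebra.TensorProduct.comm k k' T).toRingEquiv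
  haveI h3 : IsRegularRing (T ⊗[R] (R ⊗[k] k')) :=
    IsRegularRing.of_ringEquiv
      (Algebra.TensorProduct.cancelBaseChange k R T T k').symm.toRingEquiv
  haveI h4 : IsRegularRing ((R ⊗[k] k') ⊗[R] T) :=
    IsRegularRing.of_ringEquiv (Algebra.TensorProduct.comm R T (R ⊗[k] k')).toRingEquiv
  haveI h5 : IsRegularRing (R ⊗[k] k') := Groth.Agent.S9406.result (R ⊗[k] k') ((R ⊗[k] k') ⊗[R] T)
  exact IsRegularRing.of_ringEquiv (Algebra.TensorProduct.comm k R k').toRingEquiv

end H5.DS
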