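import Groth.Agent.Lib.Helper5.DS.DS1

universe u

namespace H5.DS

open IsLocalRing TensorProduct

attribute [local instance] Algebra.TensorProduct.rightAlgebra

section fibre

variable (A B : Type u) [CommRing A] [CommRing B] [IsLocalRing A] [IsLocalRing B]
  [Algebra A B] [IsLocalHom (algebraMap A B)]

/-- the surjection `B → κ(A) ⊗ B`. -/
theorem includeRight_surjective :
    Function.Surjective (algebraMap B (ResidueField A ⊗[A] B)) := by
  intro x
  induction x using TensorProduct.induction_on with
  | zero => exact ⟨0, map_zero _⟩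
  | tmul c b =>
    obtain ⟨a, rfl⟩ := IsLocalRing.residue_surjective c
    refine ⟨a • b, ?_⟩
    change (1 : ResidueField A) ⊗ₜ[A] (a • b) = residue A a ⊗ₜ[A] b
    rw [TensorProduct.tmul_smul, TensorProduct.smul_tmul', Algebra.smul_def, mul_one]
    rfl
  | add x y hx hy =>
    obtain ⟨b, rfl⟩ := hx
    obtain ⟨b', rfl⟩ := hy
    exact ⟨b + b', map_add _ _ _⟩

/-- the map `κ(A) ⊗ B → κ(B)`. -/
noncomputable def toResidue : ResidueField A ⊗[A] B →ₐ[A] ResidueField B :=
  Algebra.TensorProduct.lift (IsScalarTower.toAlgHom A (ResidueField A) (ResidueField B))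
    (IsScalarTower.toAlgHom A B (ResidueField B)) (fun _ _ => .all _ _)

theorem toResidue_algebraMap (b : B) :
    toResidue A B (algebraMap B (ResidueField A ⊗[A] B) b) = residue B b := by
  change toResidue A B ((1 : ResidueField A) ⊗ₜ[A] b) = _
  simp [toResidue]

instance : Nontrivial (ResidueField A ⊗[A] B) := (toResidue A B).toRingHom.domain_nontrivial

instance isLocalRing_fibre : IsLocalRing (ResidueField A ⊗[A] B) :=
  IsLocalRing.of_surjective' (algebraMap B (ResidueField A ⊗[A] B)) (includeRight_surjective A B)

theorem mem_maximalIdeal_fibre (b : B) :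
    algebraMap B (ResidueField A ⊗[A] B) b ∈ maximalIdeal (ResidueField A ⊗[A] B) ↔
      b ∈ maximalIdeal B := by
  constructor
  · intro h hb
    exact h (hb.map _)
  · intro h hu
    have := hu.map (toResidue A B)
    rw [toResidue_algebraMap, isUnit_iff_ne_zero] at this
    exact this ((IsLocalRing.residue_eq_zero_iff _).2 h)

end fibre

end H5.DS

namespace H5.DS

open IsLocalRing TensorProduct

attribute [local instance] Algebra.TensorProduct.rightAlgebra

section main

variable (A B C : Type u) [CommRing A] [CommRing B] [CommRing C] [IsLocalRing A] [IsLocalRing B]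
  [IsLocalRing C] [Algebra A B] [Algebra B C] [Algebra A C] [IsScalarTower A B C]
  [IsLocalHom (algebraMap A B)] [IsLocalHom (algebraMap B C)] [IsLocalHom (algebraMap A C)]

/-- the map on fibres. -/
noncomputable def fibreMap : ResidueField A ⊗[A] B →ₐ[ResidueField A] ResidueField A ⊗[A] C :=
  Algebra.TensorProduct.map (AlgHom.id (ResidueField A) (ResidueField A))
    (IsScalarTower.toAlgHom A B C)

theorem fibreMap_algebraMap (b : B) :
    fibreMap A B C (algebraMap B (ResidueField A ⊗[A] B) b) =
      algebraMap C (ResidueField A ⊗[A] C) (algebraMap B C b) := by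
  change fibreMap A B C ((1 : ResidueField A) ⊗ₜ[A] b) = (1 : ResidueField A) ⊗ₜ[A] (algebraMap B C b)
  simp [fibreMap]

theorem isLocalHom_fibreMap : IsLocalHom (fibreMap A B C).toRingHom := by
  constructor
  intro x hx
  obtain ⟨b, rfl⟩ := includeRight_surjective A B x
  by_contra hnu
  have h1 : algebraMap B (ResidueField A ⊗[A] B) b ∈ maximalIdeal (ResidueField A ⊗[A] B) := hnu
  rw [mem_maximalIdeal_fibre] at h1
  have h2 : algebraMap B C b ∈ maximalIdeal C := by
    intro hu
    exact h1 (isUnit_of_map_unit (algebraMap B C) b hu)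
  have h3 := (mem_maximalIdeal_fibre A C (algebraMap B C b)).2 h2
  apply h3
  have : (fibreMap A B C).toRingHom (algebraMap B (ResidueField A ⊗[A] B) b) =
      algebraMap C (ResidueField A ⊗[A] C) (algebraMap B C b) := fibreMap_algebraMap A B C b
  rw [← this]
  exact hx

end main

end H5.DS
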