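import Groth.Agent.Lib.Helper5.DS.DS2

universe u

namespace H5.DS

open IsLocalRing TensorProduct

attribute [local instance] Algebra.TensorProduct.rightAlgebra

section main

variable (A B C : Type u) [CommRing A] [CommRing B] [CommRing C] [IsLocalRing A] [IsLocalRing B]
  [IsLocalRing C] [Algebra A B] [Algebra B C] [Algebra A C] [IsScalarTower A B C]
  [IsLocalHom (algebraMap A B)] [IsLocalHom (algebraMap B C)] [IsLocalHom (algebraMap A C)]

theorem flat_fibreMap [Module.Flat B C] :
    letI := (fibreMap A B C).toRingHom.toAlgebra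
    Module.Flat (ResidueField A ⊗[A] B) (ResidueField A ⊗[A] C) := by
  letI := (fibreMap A B C).toRingHom.toAlgebra
  letI : Algebra B (ResidueField A ⊗[A] C) :=
    ((algebraMap C (ResidueField A ⊗[A] C)).comp (algebraMap B C)).toAlgebra
  haveI : IsScalarTower B C (ResidueField A ⊗[A] C) := IsScalarTower.of_algebraMap_eq (fun _ => rfl)
  haveI : IsScalarTower B (ResidueField A ⊗[A] B) (ResidueField A ⊗[A] C) :=
    IsScalarTower.of_algebraMap_eq (fun b => (fibreMap_algebraMap A B C b).symm)
  haveI : IsScalarTower (ResidueField A) (ResidueField A ⊗[A] B) (ResidueField A ⊗[A] C) :=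
    IsScalarTower.of_algebraMap_eq (fun x => ((fibreMap A B C).commutes x).symm)
  haveI : IsScalarTower A C (ResidueField A ⊗[A] C) := IsScalarTower.of_algebraMap_eq (fun a => by
    change (algebraMap A (ResidueField A) a) ⊗ₜ[A] (1 : C) = (1 : ResidueField A) ⊗ₜ[A] (algebraMap A C a)
    rw [Algebra.algebraMap_eq_smul_one, Algebra.algebraMap_eq_smul_one, TensorProduct.smul_tmul])
  haveI : IsScalarTower A B (ResidueField A ⊗[A] B) := IsScalarTower.of_algebraMap_eq (fun a => by
    change (algebraMap A (ResidueField A) a) ⊗ₜ[A] (1 : B) = (1 : ResidueField A) ⊗ₜ[A] (algebraMap A B a)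
    rw [Algebra.algebraMap_eq_smul_one, Algebra.algebraMap_eq_smul_one, TensorProduct.smul_tmul])
  haveI : IsScalarTower A (ResidueField A ⊗[A] B) (ResidueField A ⊗[A] C) :=
    IsScalarTower.of_algebraMap_eq (fun a => by
      rw [IsScalarTower.algebraMap_apply A (ResidueField A) (ResidueField A ⊗[A] B),
        IsScalarTower.algebraMap_apply A (ResidueField A) (ResidueField A ⊗[A] C),
        ← IsScalarTower.algebraMap_apply (ResidueField A) (ResidueField A ⊗[A] B)
          (ResidueField A ⊗[A] C)])
  have hP : Algebra.IsPushout B C (ResidueField A ⊗[A] B) (ResidueField A ⊗[A] C) :=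
    (Algebra.IsPushout.comp_iff (R := A) (S := B) (T := C) (R' := ResidueField A)
      (S' := ResidueField A ⊗[A] B) (T' := ResidueField A ⊗[A] C)).1 inferInstance
  have hP' := hP.symm
  exact Module.Flat.isBaseChange (R := B) (S := ResidueField A ⊗[A] B) (M := C)
    (ResidueField A ⊗[A] C) hP'.out

end main

end H5.DS

namespace H5.DS

open IsLocalRing TensorProduct

attribute [local instance] Algebra.TensorProduct.rightAlgebra

section main2

variable (A B C : Type u) [CommRing A] [CommRing B] [CommRing C] [IsLocalRing A] [IsLocalRing B]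
  [IsLocalRing C] [Algebra A B] [Algebra B C] [Algebra A C] [IsScalarTower A B C]
  [IsLocalHom (algebraMap A B)] [IsLocalHom (algebraMap B C)] [IsLocalHom (algebraMap A C)]

theorem formallySmooth_fibre [Algebra.EssFiniteType A B] [Algebra.EssFiniteType A C]
    [Algebra.FormallySmooth A C] [Module.Flat B C] :
    Algebra.FormallySmooth (ResidueField A) (ResidueField A ⊗[A] B) := by
  letI := (fibreMap A B C).toRingHom.toAlgebra
  haveI : IsScalarTower (ResidueField A) (ResidueField A ⊗[A] B) (ResidueField A ⊗[A] C) :=
    IsScalarTower.of_algebraMap_eq (fun x => ((fibreMap A B C).commutes x).symm)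
  haveI : IsLocalHom (algebraMap (ResidueField A ⊗[A] B) (ResidueField A ⊗[A] C)) :=
    isLocalHom_fibreMap A B C
  haveI := flat_fibreMap A B C
  haveI : IsNoetherianRing (ResidueField A ⊗[A] B) :=
    Algebra.EssFiniteType.isNoetherianRing (ResidueField A) _
  haveI : IsNoetherianRing (ResidueField A ⊗[A] C) :=
    Algebra.EssFiniteType.isNoetherianRing (ResidueField A) _
  have h := Groth.Agent.H5.GR.isAdicFormallySmooth_of_formallySmooth (ResidueField A)
    (ResidueField A ⊗[A] C) (maximalIdeal (ResidueField A ⊗[A] C))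
  have h2 := isAdicFormallySmooth_of_flat_local (ResidueField A) (ResidueField A ⊗[A] B)
    (ResidueField A ⊗[A] C) h
  exact Groth.Agent.H5.Jac.formallySmooth_of_isAdicFormallySmooth_of_essFiniteType h2

end main2

end H5.DS
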