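import Groth.Agent.Lib.Helper5.DS.DS3

universe u

namespace H5.DS

open IsLocalRing TensorProduct Algebra

/-- local version of `Algebra.IsSmoothAt.of_formallySmooth_fiber`: flatness and formal smoothness
of the fibre are only required at the local rings. -/
theorem isSmoothAt_of_flat_of_fibre {R S : Type u} [CommRing R] [CommRing S] [Algebra R S]
    [Algebra.FinitePresentation R S] (p : Ideal R) (q : Ideal S)
    [p.IsPrime] [q.IsPrime] [q.LiesOver p]
    [Algebra (Localization.AtPrime p) (Localization.AtPrime q)]
    [Localization.AtPrime.IsLiesOverAlgebra p q]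
    [IsLocalHom (algebraMap (Localization.AtPrime p) (Localization.AtPrime q))]
    [Module.Flat (Localization.AtPrime p) (Localization.AtPrime q)]
    [Algebra.FormallySmooth (ResidueField (Localization.AtPrime p))
      (ResidueField (Localization.AtPrime p) ⊗[Localization.AtPrime p] Localization.AtPrime q)] :
    Algebra.IsSmoothAt R q := by
  let Rp := Localization.AtPrime p
  let Sp := Localization (algebraMapSubmonoid S p.primeCompl)
  let Sq := Localization.AtPrime q
  let f : Sp →ₐ[S] Sq := IsLocalization.liftAlgHom (M := algebraMapSubmonoid S p.primeCompl)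
        (f := Algebra.ofId _ _) (by
      rintro ⟨_, x, hx, rfl⟩
      simpa using! IsLocalization.map_units (M := q.primeCompl) Sq ⟨algebraMap _ _ x,
        by simp_all [q.over_def p]⟩)
  algebraize [f.toRingHom]
  have : IsScalarTower R Sp Sq := .to₁₃₄ _ S _ _
  have : IsScalarTower Rp Sp Sq := .of_algebraMap_eq' <| by
    apply IsLocalization.ringHom_ext p.primeCompl
    simp only [RingHom.comp_assoc, ← IsScalarTower.algebraMap_eq]
  have : IsLocalization (algebraMapSubmonoid Sp q.primeCompl) Sq :=
    .isLocalization_of_submonoid_le _ _ (algebraMapSubmonoid S p.primeCompl) _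
    (by rintro _ ⟨x, hx, rfl⟩; simp_all [q.over_def p])
  have : FinitePresentation Rp Sp := by
    have : Algebra.IsPushout R Rp S Sp :=
      .symm <| Algebra.isPushout_of_isLocalization p.primeCompl _ _ _
    exact .equiv (Algebra.IsPushout.equiv R Rp S Sp)
  have := FormallySmooth.of_formallySmooth_residueField_tensor
    (R := Rp) (S := Sq) (P := Sp) (algebraMapSubmonoid _ q.primeCompl)
  exact .comp R Rp Sq

end H5.DS

namespace H5.DS

open IsLocalRing TensorProduct Algebra

/-- ring-level descent of smoothness along a flat local map (EGA IV 17.7.7). -/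
theorem isSmoothAt_of_flat_of_isSmoothAt {R S T : Type u} [CommRing R] [CommRing S] [CommRing T]
    [Algebra R S] [Algebra S T] [Algebra R T] [IsScalarTower R S T]
    [Algebra.FinitePresentation R S] [Algebra.FiniteType R T]
    (p : Ideal R) (q : Ideal S) (r : Ideal T) [p.IsPrime] [q.IsPrime] [r.IsPrime]
    [q.LiesOver p] [r.LiesOver q] [r.LiesOver p]
    (hT : Algebra.IsSmoothAt R r)
    (hflatT : letI := Localization.AtPrime.algebraOfLiesOver p r
      Module.Flat (Localization.AtPrime p) (Localization.AtPrime r))
    (hflatST : letI := Localization.AtPrime.algebraOfLiesOver q r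
      Module.Flat (Localization.AtPrime q) (Localization.AtPrime r)) :
    Algebra.IsSmoothAt R q := by
  letI := Localization.AtPrime.algebraOfLiesOver p q
  letI := Localization.AtPrime.algebraOfLiesOver q r
  letI := Localization.AtPrime.algebraOfLiesOver p r
  haveI : IsLocalHom (algebraMap (Localization.AtPrime p) (Localization.AtPrime q)) := by
    rw [RingHom.algebraMap_toAlgebra]
    exact Localization.isLocalHom_localRingHom p q (algebraMap R S) Ideal.LiesOver.over
  haveI : IsLocalHom (algebraMap (Localization.AtPrime q) (Localization.AtPrime r)) := by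
    rw [RingHom.algebraMap_toAlgebra]
    exact Localization.isLocalHom_localRingHom q r (algebraMap S T) Ideal.LiesOver.over
  haveI : IsLocalHom (algebraMap (Localization.AtPrime p) (Localization.AtPrime r)) := by
    rw [RingHom.algebraMap_toAlgebra]
    exact Localization.isLocalHom_localRingHom p r (algebraMap R T) Ideal.LiesOver.over
  haveI : Module.Flat (Localization.AtPrime p) (Localization.AtPrime r) := hflatT
  haveI : Module.Flat (Localization.AtPrime q) (Localization.AtPrime r) := hflatST
  haveI : Module.FaithfullyFlat (Localization.AtPrime q) (Localization.AtPrime r) :=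
    Module.FaithfullyFlat.of_flat_of_isLocalHom
  haveI : Module.Flat (Localization.AtPrime p) (Localization.AtPrime q) :=
    Groth.Agent.H5.EtSrc.flat_of_flat_of_faithfullyFlat (A := Localization.AtPrime p)
      (B := Localization.AtPrime q) (C := Localization.AtPrime r)
  haveI : Algebra.FormallySmooth R (Localization.AtPrime r) := hT
  haveI : Algebra.FormallySmooth (Localization.AtPrime p) (Localization.AtPrime r) :=
    Algebra.FormallySmooth.localization_base p.primeCompl
  haveI : Algebra.EssFiniteType R (Localization.AtPrime q) :=
    Algebra.EssFiniteType.comp R S (Localization.AtPrime q)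
  haveI : Algebra.EssFiniteType R (Localization.AtPrime r) :=
    Algebra.EssFiniteType.comp R T (Localization.AtPrime r)
  haveI : Algebra.EssFiniteType (Localization.AtPrime p) (Localization.AtPrime q) :=
    Algebra.EssFiniteType.of_comp R _ _
  haveI : Algebra.EssFiniteType (Localization.AtPrime p) (Localization.AtPrime r) :=
    Algebra.EssFiniteType.of_comp R _ _
  haveI := formallySmooth_fibre (Localization.AtPrime p) (Localization.AtPrime q)
    (Localization.AtPrime r)
  exact isSmoothAt_of_flat_of_fibre p q

end H5.DS
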